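import Mathlib.GroupTheory.GroupAction.Quotient
import Mathlib.GroupTheory.Index
import Mathlib.Data.Nat.Bitwise
import Mathlib.Data.Set.Card

/-! A checker for certificates of coset enumerations.  A fact `(i, x, j)` says that the letter `x`
moves the coset named `i` to the coset named `j`; the coset named `f + 1` is defined by fact `f`. -/

set_option autoImplicit false

namespace H1.TC

/-- storage for facts -/
inductive Tr where
  | leaf : ℕ → Tr
  | node : Tr → Tr → Tr

/-- descend along the binary digits -/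
noncomputable def Tr.get (t : Tr) : ℕ → ℕ :=
  Tr.rec (fun n _ => n)
    (fun _ _ l r k => cond (Nat.beq (Nat.land k 1) 0) (l (Nat.shiftRight k 1)) (r (Nat.shiftRight k 1))) t

/-- the code of fact number `f` -/
noncomputable def fct (t : Tr) (f : ℕ) : ℕ :=
  Nat.land (Nat.shiftRight (t.get (Nat.shiftRight f 7)) (Nat.mul 45 (Nat.land f 127))) 35184372088831

/-- source -/
def fi (c : ℕ) : ℕ := Nat.land c 1048575
/-- target -/
def fj (c : ℕ) : ℕ := Nat.land (Nat.shiftRight c 20) 1048575
/-- letter -/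
def fx (c : ℕ) : ℕ := Nat.land (Nat.shiftRight c 40) 31
/-- inverse letter -/
def ivl (iv y : ℕ) : ℕ := Nat.land (Nat.shiftRight iv (Nat.mul 5 y)) 31
/-- append a letter to a word -/
def app (w y : ℕ) : ℕ := cond (Nat.beq y 0) w (Nat.add (Nat.mul w 32) y)
/-- relator number `k` -/
def slot (R k : ℕ) : ℕ :=
  Nat.land (Nat.shiftRight R (Nat.mul 128 k)) 340282366920938463463374607431768211455

/-- one step of a walk; the continuation gets the new vertex and the new word -/
noncomputable def step (t : Tr) (iv f s v w : ℕ) (k : ℕ → ℕ → Bool) : Bool :=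
  cond (Nat.ble f (Nat.shiftRight s 1)) false
    ((fun c => cond (Nat.beq (Nat.land s 1) 0)
      (cond (Nat.beq v (fi c)) (k (fj c) (app w (fx c))) false)
      (cond (Nat.beq v (fj c)) (k (fi c) (app w (ivl iv (fx c)))) false))
      (fct t (Nat.shiftRight s 1)))

/-- a walk of `n` steps read from the stream `p` -/
noncomputable def walk (t : Tr) (iv f : ℕ) (fin : ℕ → ℕ → ℕ → Bool) (n : ℕ) : ℕ → ℕ → ℕ → Bool :=
  Nat.rec fin (fun _ ih p v w =>
    step t iv f (Nat.land p 2097151) v w (ih (Nat.shiftRight p 21))) n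

/-- check fact `f` with code `c`; the continuation gets the rest of the stream -/
noncomputable def one (t : Tr) (iv R sub f c p : ℕ) (k : ℕ → Bool) : Bool :=
  cond (Nat.beq (fj c) (Nat.succ f) && Nat.ble (fi c) f) (k p)
    (cond (Nat.beq (fi c) 0 && Nat.beq (fj c) 0 && Nat.beq (Nat.land (Nat.shiftRight sub (fx c)) 1) 1)
      (k p)
      (walk t iv f (fun p' v w => cond (Nat.beq v (fi c) &&
          Nat.beq w (slot R (Nat.land (Nat.shiftRight p 6) 1023))) (k p') false)
        (Nat.land p 63) (Nat.shiftRight p 16) (fj c) (fx c)))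

/-- check `n` facts from number `f` on -/
noncomputable def run (t : Tr) (iv R sub : ℕ) (n : ℕ) : ℕ → ℕ → Bool :=
  Nat.rec (fun _ _ => true) (fun _ ih f p => one t iv R sub f (fct t f) p (ih (Nat.succ f))) n

/-- check blocks of `32` facts -/
noncomputable def runs (t : Tr) (iv R sub : ℕ) (ps : List ℕ) : ℕ → Bool :=
  List.rec (fun _ => true) (fun p _ ih f => run t iv R sub 32 f p && ih (Nat.add f 32)) ps

variable {Γ Ω : Type*} [Group Γ] [MulAction Γ Ω]

/-- the value of a coded word; the first letter acts first -/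
def ev (gen : ℕ → Γ) (w : ℕ) : Γ :=
  if _h : w = 0 then 1 else gen (w % 32) * ev gen (w / 32)
  decreasing_by omega

theorem ev_add {gen : ℕ → Γ} (h0 : gen 0 = 1) (w : ℕ) {y : ℕ} (hy : y < 32) :
    ev gen (w * 32 + y) = gen y * ev gen w := by
  rw [ev]
  split_ifs with h
  · obtain ⟨rfl, rfl⟩ : w = 0 ∧ y = 0 := by omega
    rw [h0, ev]; simp
  · rw [show (w * 32 + y) % 32 = y by omega, show (w * 32 + y) / 32 = w by omega]

theorem ev_app {gen : ℕ → Γ} (h0 : gen 0 = 1) (w : ℕ) {y : ℕ} (hy : y < 32) :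
    ev gen (app w y) = gen y * ev gen w := by
  unfold app
  cases h : Nat.beq y 0
  · exact ev_add h0 w hy
  · rw [Nat.eq_of_beq_eq_true h, h0, one_mul]; rfl

theorem land31 (n : ℕ) : Nat.land n 31 < 32 := Nat.and_lt_two_pow n (n := 5) (by decide)
theorem fx_lt (n : ℕ) : fx n < 32 := land31 _
theorem ivl_lt (iv n : ℕ) : ivl iv n < 32 := land31 _

theorem ev_zero (gen : ℕ → Γ) : ev gen 0 = 1 := by rw [ev, dif_pos rfl]

theorem ev_lt {gen : ℕ → Γ} (h0 : gen 0 = 1) {y : ℕ} (hy : y < 32) : ev gen y = gen y := by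
  have := ev_add h0 0 hy
  rwa [zero_mul, zero_add, ev_zero, mul_one] at this

/-- the named cosets -/
noncomputable def cs (t : Tr) (gen : ℕ → Γ) (ω : Ω) : ℕ → Ω
  | 0 => ω
  | f + 1 => if _h : fi (fct t f) ≤ f then gen (fx (fct t f)) • cs t gen ω (fi (fct t f)) else ω
  decreasing_by omega

/-- fact `f` holds -/
def Ok (t : Tr) (gen : ℕ → Γ) (ω : Ω) (f : ℕ) : Prop :=
  gen (fx (fct t f)) • cs t gen ω (fi (fct t f)) = cs t gen ω (fj (fct t f))

/-- the hypotheses on the group -/
structure Hyp (gen : ℕ → Γ) (ω : Ω) (iv R sub : ℕ) : Prop where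
  zero : gen 0 = 1
  inv : ∀ y < 32, gen (ivl iv y) = (gen y)⁻¹
  rel : ∀ k, ev gen (slot R k) = 1
  sub : ∀ y < 32, Nat.land (Nat.shiftRight sub y) 1 = 1 → gen y • ω = ω

variable {t : Tr} {gen : ℕ → Γ} {ω : Ω} {iv R sub : ℕ}

theorem step_sound (H : Hyp gen ω iv R sub) {f : ℕ} (hf : ∀ g < f, Ok t gen ω g) {s v w : ℕ}
    {k : ℕ → ℕ → Bool} (h : step t iv f s v w k = true) {z : Ω}
    (hz : cs t gen ω v = ev gen w • z) :
    ∃ v' w', k v' w' = true ∧ cs t gen ω v' = ev gen w' • z := by
  unfold step at h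
  cases h1 : Nat.ble f (Nat.shiftRight s 1)
  · have hk := hf _ (Nat.lt_of_not_le (Nat.not_le_of_not_ble_eq_true (by rw [h1]; decide)))
    rw [h1] at h
    simp only [cond_false] at h
    unfold Ok at hk
    cases h2 : Nat.beq (Nat.land s 1) 0 <;> rw [h2] at h
    · cases h3 : Nat.beq v (fj (fct t (Nat.shiftRight s 1))) <;> rw [h3] at h
      · exact absurd h (by simp)
      · refine ⟨_, _, h, ?_⟩
        rw [ev_app H.zero _ (ivl_lt _ _), H.inv _ (fx_lt _), mul_smul, ← hz,
          Nat.eq_of_beq_eq_true h3, ← hk, inv_smul_smul]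
    · cases h3 : Nat.beq v (fi (fct t (Nat.shiftRight s 1))) <;> rw [h3] at h
      · exact absurd h (by simp)
      · refine ⟨_, _, h, ?_⟩
        rw [ev_app H.zero _ (fx_lt _), mul_smul, ← hz, Nat.eq_of_beq_eq_true h3, hk]
  · rw [h1] at h; exact absurd h (by simp)

theorem walk_sound (H : Hyp gen ω iv R sub) {f : ℕ} (hf : ∀ g < f, Ok t gen ω g)
    {fin : ℕ → ℕ → ℕ → Bool} {z : Ω} (n : ℕ) : ∀ p v w, walk t iv f fin n p v w = true →
    cs t gen ω v = ev gen w • z → ∃ p' v' w', fin p' v' w' = true ∧ cs t gen ω v' = ev gen w' • z := by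
  induction n with
  | zero => exact fun p v w h hz => ⟨p, v, w, h, hz⟩
  | succ n ih =>
    intro p v w h hz
    obtain ⟨v', w', h1, h2⟩ := step_sound H hf (k := walk t iv f fin n (Nat.shiftRight p 21)) h hz
    exact ih _ _ _ h1 h2

theorem one_sound (H : Hyp gen ω iv R sub) {f : ℕ} (hf : ∀ g < f, Ok t gen ω g) {p : ℕ}
    {k : ℕ → Bool} (h : one t iv R sub f (fct t f) p k = true) :
    Ok t gen ω f ∧ ∃ p', k p' = true := by
  unfold one at h
  cases h1 : (Nat.beq (fj (fct t f)) (Nat.succ f) && Nat.ble (fi (fct t f)) f) <;> rw [h1] at h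
  swap
  · rw [Bool.and_eq_true] at h1
    refine ⟨?_, p, h⟩
    unfold Ok
    rw [Nat.eq_of_beq_eq_true h1.1, cs, dif_pos (Nat.le_of_ble_eq_true h1.2)]
  simp only [cond_false] at h
  cases h2 : (Nat.beq (fi (fct t f)) 0 && Nat.beq (fj (fct t f)) 0 &&
    Nat.beq (Nat.land (Nat.shiftRight sub (fx (fct t f))) 1) 1) <;> rw [h2] at h
  swap
  · rw [Bool.and_eq_true, Bool.and_eq_true] at h2
    refine ⟨?_, p, h⟩
    unfold Ok
    rw [Nat.eq_of_beq_eq_true h2.1.1, Nat.eq_of_beq_eq_true h2.1.2, cs]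
    exact H.sub _ (fx_lt _) (Nat.eq_of_beq_eq_true h2.2)
  simp only [cond_false] at h
  obtain ⟨p', v', w', h3, h4⟩ := walk_sound H hf
    (z := (gen (fx (fct t f)))⁻¹ • cs t gen ω (fj (fct t f))) _ _ _ _ h (by
      rw [ev_lt H.zero (fx_lt _), smul_inv_smul])
  cases h5 : (Nat.beq v' (fi (fct t f)) &&
    Nat.beq w' (slot R (Nat.land (Nat.shiftRight p 6) 1023))) <;> rw [h5] at h3
  · exact absurd h3 (by simp)
  rw [Bool.and_eq_true] at h5
  refine ⟨?_, p', h3⟩
  rw [Nat.eq_of_beq_eq_true h5.1, Nat.eq_of_beq_eq_true h5.2, H.rel, one_smul] at h4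
  unfold Ok
  rw [h4, smul_inv_smul]

theorem run_sound (H : Hyp gen ω iv R sub) (n : ℕ) : ∀ f p, run t iv R sub n f p = true →
    (∀ g < f, Ok t gen ω g) → ∀ g < f + n, Ok t gen ω g := by
  induction n with
  | zero => exact fun f p _ hf => hf
  | succ n ih =>
    intro f p h hf
    obtain ⟨h1, p', h2⟩ := one_sound H hf (k := run t iv R sub n (Nat.succ f)) h
    have := ih _ _ h2 fun g hg => by
      rcases Nat.lt_succ_iff_lt_or_eq.mp hg with e | e
      · exact hf g e
      · exact e ▸ h1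
    exact fun g hg => this g (by omega)

theorem runs_sound (H : Hyp gen ω iv R sub) (ps : List ℕ) : ∀ f, runs t iv R sub ps f = true →
    (∀ g < f, Ok t gen ω g) → ∀ g < f + 32 * ps.length, Ok t gen ω g := by
  induction ps with
  | nil => exact fun f _ hf => hf
  | cons p ps ih =>
    intro f h hf
    have h' : (run t iv R sub 32 f p && runs t iv R sub ps (Nat.add f 32)) = true := h
    rw [Bool.and_eq_true] at h'
    have := ih _ h'.2 (run_sound H 32 f p h'.1 hf)
    exact fun g hg => this g (by simp only [List.length_cons, Nat.add_eq] at *; omega)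

theorem fix_of_ok {f x : ℕ} (h : Ok t gen ω f)
    (e : (Nat.beq (fi (fct t f)) 0 && Nat.beq (fj (fct t f)) 0 && Nat.beq (fx (fct t f)) x) = true) :
    gen x • ω = ω := by
  rw [Bool.and_eq_true, Bool.and_eq_true] at e
  unfold Ok at h
  rwa [Nat.eq_of_beq_eq_true e.1.1, Nat.eq_of_beq_eq_true e.1.2, Nat.eq_of_beq_eq_true e.2,
    cs] at h

/-- the row of the coset `s`: letters `y + 1, …, y + n` lead into the mask -/
noncomputable def row (t : Tr) (iv N m s : ℕ) (n : ℕ) : ℕ → ℕ → Bool :=
  Nat.rec (fun _ _ => true) (fun _ ih y p =>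
    step t iv N (Nat.land p 2097151) s 0 (fun v w => Nat.beq w (Nat.succ y) &&
      Nat.beq (Nat.land (Nat.shiftRight m v) 1) 1) && ih (Nat.succ y) (Nat.shiftRight p 21)) n

/-- rows; an entry codes the coset and the steps -/
noncomputable def rows (t : Tr) (iv N m n : ℕ) (l : List ℕ) : Bool :=
  List.rec true (fun e _ ih => row t iv N m (fi e) n 0 (Nat.shiftRight e 20) && ih) l

/-- the mask of a list of entries -/
noncomputable def mask (l : List ℕ) : ℕ :=
  List.rec 0 (fun e _ ih => Nat.lor (Nat.shiftLeft 1 (fi e)) ih) l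

theorem mem_of_mask (l : List ℕ) {v : ℕ} (h : Nat.land (Nat.shiftRight (mask l) v) 1 = 1) :
    v ∈ l.map fi := by
  have h' : (mask l).testBit v = true := by
    rw [Nat.testBit, Nat.and_comm]
    exact bne_iff_ne.mpr (by rw [show mask l >>> v &&& 1 = 1 from h]; decide)
  clear h
  induction l with
  | nil => exact absurd h' (by rw [show mask [] = 0 from rfl]; simp)
  | cons e l ih =>
    rw [show mask (e :: l) = (1 <<< fi e) ||| mask l from rfl, Nat.testBit_or, Bool.or_eq_true,
      Nat.one_shiftLeft, Nat.testBit_two_pow] at h'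
    rcases h' with h | h
    · simp [of_decide_eq_true h]
    · exact List.mem_cons_of_mem _ (ih h)

theorem row_sound (H : Hyp gen ω iv R sub) {N m s : ℕ} (hf : ∀ g < N, Ok t gen ω g) (n : ℕ) :
    ∀ y p, row t iv N m s n y p = true → y + n < 32 → ∀ x, y < x → x ≤ y + n →
      ∃ v, Nat.land (Nat.shiftRight m v) 1 = 1 ∧ gen x • cs t gen ω s = cs t gen ω v := by
  induction n with
  | zero => intro y p _ _ x h1 h2; omega
  | succ n ih =>
    intro y p h hy x h1 h2
    have h' : (step t iv N (Nat.land p 2097151) s 0 (fun v w => Nat.beq w (Nat.succ y) &&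
      Nat.beq (Nat.land (Nat.shiftRight m v) 1) 1) &&
      row t iv N m s n (Nat.succ y) (Nat.shiftRight p 21)) = true := h
    rw [Bool.and_eq_true] at h'
    by_cases e : x = y + 1
    · obtain ⟨v, w, a1, a2⟩ := step_sound H hf h'.1 (z := cs t gen ω s)
        (by rw [ev_zero, one_smul])
      rw [Bool.and_eq_true] at a1
      refine ⟨v, Nat.eq_of_beq_eq_true a1.2, ?_⟩
      rw [a2, Nat.eq_of_beq_eq_true a1.1, e, ev_lt H.zero (y := y.succ) (by omega)]
    · exact ih _ _ h'.2 (by omega) x (by omega) (by omega)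

theorem rows_sound (H : Hyp gen ω iv R sub) {N m n : ℕ} (hf : ∀ g < N, Ok t gen ω g)
    (hn : n < 32) (l : List ℕ) (h : rows t iv N m n l = true) : ∀ s ∈ l.map fi, ∀ x, 0 < x → x ≤ n →
      ∃ v, Nat.land (Nat.shiftRight m v) 1 = 1 ∧ gen x • cs t gen ω s = cs t gen ω v := by
  induction l with
  | nil => simp
  | cons e l ih =>
    have h' : (row t iv N m (fi e) n 0 (Nat.shiftRight e 20) && rows t iv N m n l) = true := h
    rw [Bool.and_eq_true] at h'
    intro s hs x h1 h2
    rcases List.mem_cons.mp hs with rfl | hs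
    · exact row_sound H hf n 0 _ h'.1 (by omega) x h1 (by omega)
    · exact ih h'.2 s hs x h1 h2

theorem rows_append {N m n : ℕ} (l l' : List ℕ) (h : rows t iv N m n l = true)
    (h' : rows t iv N m n l' = true) : rows t iv N m n (l ++ l') = true := by
  induction l with
  | nil => exact h'
  | cons e l ih =>
    have h1 : (row t iv N m (fi e) n 0 (Nat.shiftRight e 20) && rows t iv N m n l) = true := h
    rw [Bool.and_eq_true] at h1
    show (row t iv N m (fi e) n 0 (Nat.shiftRight e 20) && rows t iv N m n (l ++ l')) = true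
    rw [h1.1, ih h1.2]; rfl

/-- the orbit is contained in the listed cosets -/
theorem orbit_sub (H : Hyp gen ω iv R sub) {N n : ℕ} (hf : ∀ g < N, Ok t gen ω g)
    (hn : n < 32) (hi : ∀ y ≤ n, ivl iv y ≤ n) {l : List ℕ} {m : ℕ} (hm : mask l = m)
    (h : rows t iv N m n l = true) (h0 : Nat.land m 1 = 1) {g : Γ}
    (hg : g ∈ Subgroup.closure (gen '' {y | y ≤ n})) : g • ω ∈ (l.map fi).map (cs t gen ω) := by
  subst hm
  have key : ∀ x ≤ n, ∀ z ∈ (l.map fi).map (cs t gen ω), gen x • z ∈ (l.map fi).map (cs t gen ω) := by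
    intro x hx z hz
    obtain ⟨s, hs, rfl⟩ := List.mem_map.mp hz
    rcases Nat.eq_zero_or_pos x with rfl | h1
    · rwa [H.zero, one_smul]
    · obtain ⟨v, a1, a2⟩ := rows_sound H hf hn l h s hs x h1 hx
      exact a2 ▸ List.mem_map_of_mem (mem_of_mask l a1)
  induction hg using Subgroup.closure_induction_left with
  | one =>
    rw [one_smul]
    exact List.mem_map.mpr ⟨0, mem_of_mask l h0, by rw [cs]⟩
  | mul_left x hx y _ ih =>
    obtain ⟨x, hx, rfl⟩ := hx
    rw [mul_smul]; exact key x hx _ ih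
  | inv_mul_cancel x hx y _ ih =>
    obtain ⟨x, hx, rfl⟩ := hx
    rw [mul_smul, ← H.inv x (lt_of_le_of_lt hx hn)]; exact key _ (hi x hx) _ ih

/-- the order bound -/
theorem card_le [Finite Γ] {S : Subgroup Γ} (H : Hyp gen ((1 : Γ) : Γ ⧸ S) iv R sub) {N n : ℕ}
    (hf : ∀ g < N, Ok t gen ((1 : Γ) : Γ ⧸ S) g) (hn : n < 32) (hi : ∀ y ≤ n, ivl iv y ≤ n)
    {l : List ℕ} {m : ℕ} (hm : mask l = m) (h : rows t iv N m n l = true) (h0 : Nat.land m 1 = 1) :
    Nat.card (Subgroup.closure (gen '' {y | y ≤ n})) ≤ l.length * Nat.card S := by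
  classical
  set K := Subgroup.closure (gen '' {y | y ≤ n})
  set L := (l.map fi).map (cs t gen ((1 : Γ) : Γ ⧸ S))
  let φ : K → L.toFinset × S := fun g => (⟨(g.1 : Γ ⧸ S), List.mem_toFinset.mpr (by
      have := orbit_sub H hf hn hi hm h h0 g.2
      rwa [MulAction.Quotient.smul_coe, smul_eq_mul, mul_one] at this)⟩,
    ⟨((g.1 : Γ ⧸ S).out)⁻¹ * g, QuotientGroup.eq.mp (QuotientGroup.out_eq' _)⟩)
  have hφ : Function.Injective φ := fun a b e => by
    have e1 : (a.1 : Γ ⧸ S) = b.1 := congrArg (fun z => z.1.1) e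
    have e2 : ((a.1 : Γ ⧸ S).out)⁻¹ * a = ((b.1 : Γ ⧸ S).out)⁻¹ * b := congrArg (fun z => z.2.1) e
    rw [e1] at e2
    exact Subtype.ext (mul_left_cancel e2)
  refine (Nat.card_le_card_of_injective φ hφ).trans ?_
  rw [Nat.card_prod, Nat.card_eq_fintype_card, Fintype.card_coe]
  refine Nat.mul_le_mul_right _ ((List.toFinset_card_le _).trans ?_)
  simp [L]

/-! relators -/

/-- the value of a list of letters; the first letter acts first -/
def evL (gen : ℕ → Γ) (l : List ℕ) (g : Γ) : Γ := l.foldl (fun g y => gen y * g) g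

/-- the code of a list of letters -/
def code (l : List ℕ) (w : ℕ) : ℕ := l.foldl (fun w y => w * 32 + y % 32) w

theorem ev_code (h0 : gen 0 = 1) (l : List ℕ) (hl : ∀ y ∈ l, y < 32) :
    ∀ w, ev gen (code l w) = evL gen l (ev gen w) := by
  induction l with
  | nil => exact fun w => rfl
  | cons y l ih =>
    intro w
    have hy := hl y List.mem_cons_self
    show ev gen (code l (w * 32 + y % 32)) = evL gen l (gen y * ev gen w)
    rw [ih fun z hz => hl z (List.mem_cons_of_mem _ hz), Nat.mod_eq_of_lt hy, ev_add h0 _ hy]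

theorem evL_mul (l : List ℕ) : ∀ g, evL gen l g = evL gen l 1 * g := by
  induction l with
  | nil => exact fun g => (one_mul g).symm
  | cons y l ih =>
    intro g
    show evL gen l (gen y * g) = evL gen l (gen y * 1) * g
    rw [ih, ih (gen y * 1), mul_one, mul_assoc]

theorem evL_append (l l' : List ℕ) : evL gen (l ++ l') 1 = evL gen l' 1 * evL gen l 1 := by
  rw [← evL_mul]; exact List.foldl_append

theorem evL_rot {l : List ℕ} (h : evL gen l 1 = 1) (k : ℕ) :
    evL gen (l.drop k ++ l.take k) 1 = 1 := by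
  rw [← List.take_append_drop k l, evL_append] at h
  rw [evL_append]; exact mul_eq_one_comm.mp h

theorem evL_inv (hi : ∀ y < 32, gen (ivl iv y) = (gen y)⁻¹) (l : List ℕ) (hl : ∀ y ∈ l, y < 32) :
    evL gen (l.map (ivl iv)).reverse 1 = (evL gen l 1)⁻¹ := by
  induction l with
  | nil => simp [evL]
  | cons y l ih =>
    rw [List.map_cons, List.reverse_cons, evL_append, ih fun z hz => hl z (List.mem_cons_of_mem _ hz),
      show y :: l = [y] ++ l from rfl, evL_append, mul_inv_rev]
    simp [evL, hi y (hl y List.mem_cons_self)]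

/-- all rotations -/
def rots (l : List ℕ) : List ℕ := (List.range l.length).map fun k => code (l.drop k ++ l.take k) 0

/-- the codes of the consequences used by the checker -/
def allRel (iv : ℕ) (rels : List (List ℕ)) : List ℕ :=
  (List.range 32).map (fun y => code [y, ivl iv y] 0) ++
    rels.flatMap fun l => rots l ++ rots (l.map (ivl iv)).reverse

/-- the slots hold relators -/
def slotsOk (iv R n : ℕ) (rels : List (List ℕ)) : Bool :=
  rels.all (fun l => l.all (· < 32)) && Nat.beq (Nat.shiftRight R (128 * n)) 0 &&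
    (List.range n).all fun k => Nat.beq (slot R k) 0 || (allRel iv rels).contains (slot R k)

theorem rots_sound (h0 : gen 0 = 1) {l : List ℕ} (hl : ∀ y ∈ l, y < 32) (h : evL gen l 1 = 1) :
    ∀ w ∈ rots l, ev gen w = 1 := by
  intro w hw
  obtain ⟨k, -, rfl⟩ := List.mem_map.mp hw
  rw [ev_code h0, ev_zero, evL_rot h]
  intro y hy
  rcases List.mem_append.mp hy with a | a
  · exact hl y (List.mem_of_mem_drop a)
  · exact hl y (List.mem_of_mem_take a)

theorem rel_of_slotsOk (h0 : gen 0 = 1) (hi : ∀ y < 32, gen (ivl iv y) = (gen y)⁻¹) {n : ℕ}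
    {rels : List (List ℕ)} (h : slotsOk iv R n rels = true) (hr : ∀ l ∈ rels, evL gen l 1 = 1)
    (k : ℕ) : ev gen (slot R k) = 1 := by
  simp only [slotsOk, Bool.and_eq_true, List.all_eq_true, decide_eq_true_eq, Bool.or_eq_true,
    List.mem_range, List.contains_iff_mem] at h
  obtain ⟨⟨h1, h2⟩, h3⟩ := h
  have z := ev_zero gen
  rcases lt_or_ge k n with hk | hk
  · rcases h3 k hk with a | a
    · rw [Nat.eq_of_beq_eq_true a, z]
    · rcases List.mem_append.mp a with a | a
      · obtain ⟨y, hy, e⟩ := List.mem_map.mp a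
        have hy := List.mem_range.mp hy
        rw [← e, ev_code h0, z]
        · simp [evL, hi y hy]
        · simp [hy, ivl_lt]
      · obtain ⟨l, hl, a⟩ := List.mem_flatMap.mp a
        rcases List.mem_append.mp a with a | a
        · exact rots_sound h0 (h1 l hl) (hr l hl) _ a
        · refine rots_sound h0 (fun y hy => ?_) (by rw [evL_inv hi l (h1 l hl), hr l hl, inv_one]) _ a
          obtain ⟨x, -, rfl⟩ := List.mem_map.mp (List.mem_reverse.mp hy)
          exact ivl_lt _ _
  · have : Nat.shiftRight R (Nat.mul 128 k) = 0 := by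
      obtain ⟨d, rfl⟩ := Nat.exists_eq_add_of_le hk
      show R >>> (128 * (n + d)) = 0
      rw [mul_add, Nat.shiftRight_add, show R >>> (128 * n) = 0 from Nat.eq_of_beq_eq_true h2,
        Nat.zero_shiftRight]
    rw [slot, this, show Nat.land 0 _ = 0 from Nat.zero_and _, z]

end H1.TC
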