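import Cfsg.Agent.H1.TwoS4

/-! Groups with a 2-central involution whose centralizer is `Z₂ × S₄`: the main argument. -/

set_option autoImplicit false
set_option linter.unusedSectionVars false
set_option maxRecDepth 100000

namespace H1

open Subgroup H9 Cfsg Equiv Equiv.Perm MulAction

variable {G : Type*} [Group G] [Finite G]

/-- The configuration. -/
structure TSH (ι : TS4 →* G) : Prop where
  inj : Function.Injective ι
  cen : ∀ g : G, g ∈ Cen (ι TS4.t) ↔ ∃ p, ι p = g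
  odd : Odd (Cen (ι TS4.t)).index
  cz : Cen (ι TS4.z) ≤ Cen (ι TS4.t)
  tz : ¬ IsConj (ι TS4.t) (ι TS4.z)
  ttz : ¬ IsConj (ι TS4.t) (ι (TS4.t * TS4.z))
  ztz : ¬ IsConj (ι TS4.z) (ι (TS4.t * TS4.z))

namespace TSH

variable {ι : TS4 →* G}

theorem twist (h : TSH ι) : TSH (ι.comp TS4.σ.toMonoidHom) := by
  have e1 : (ι.comp TS4.σ.toMonoidHom) TS4.t = ι TS4.t := congrArg ι TS4.σ_t
  have e2 : (ι.comp TS4.σ.toMonoidHom) TS4.z = ι TS4.z := congrArg ι TS4.σ_z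
  have e3 : (ι.comp TS4.σ.toMonoidHom) (TS4.t * TS4.z) = ι (TS4.t * TS4.z) := by
    rw [map_mul, e1, e2, map_mul]
  refine ⟨h.inj.comp TS4.σ.injective, fun g => ?_, by rw [e1]; exact h.odd,
    by rw [e1, e2]; exact h.cz, by rw [e1, e2]; exact h.tz, by rw [e1, e3]; exact h.ttz,
    by rw [e2, e3]; exact h.ztz⟩
  rw [e1, h.cen]
  constructor
  · rintro ⟨p, rfl⟩
    exact ⟨TS4.σ.symm p, congrArg ι (TS4.σ.apply_symm_apply p)⟩
  · rintro ⟨p, rfl⟩
    exact ⟨_, rfl⟩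

theorem conj (p q : TS4) : IsConj (ι p) (ι (q * p * q⁻¹)) :=
  ι.map_isConj (isConj_iff.2 ⟨q, rfl⟩)

theorem card_cen (h : TSH ι) : Nat.card (Cen (ι TS4.t)) = 48 := by
  rw [show Cen (ι TS4.t) = ι.range from Subgroup.ext h.cen, ← TS4.card]
  exact (Nat.card_congr (MonoidHom.ofInjective h.inj).toEquiv).symm

theorem ne_one (h : TSH ι) {p : TS4} (hp : p ≠ 1) : ι p ≠ 1 :=
  fun e => hp (h.inj (e.trans (map_one ι).symm))

theorem classify (h : TSH ι) {x p : TS4} (hx : x ≠ 1) (hx2 : x * x = 1)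
    (hc : IsConj (ι x) (ι p)) : p = TS4.t ∨ ∃ q : TS4, p = q * TS4.z * q⁻¹ ∨
      p = q * (TS4.t * TS4.z) * q⁻¹ ∨ p = q * TS4.b * q⁻¹ ∨ p = q * (TS4.t * TS4.b) * q⁻¹ := by
  obtain ⟨g, hg⟩ := isConj_iff.1 hc
  have h1 : p * p = 1 := h.inj (by
    rw [map_mul, ← hg, map_one, show g * ι x * g⁻¹ * (g * ι x * g⁻¹) = g * (ι x * ι x) * g⁻¹ by
      group, ← map_mul, hx2, map_one, mul_one, mul_inv_cancel])
  refine (TS4.invol p h1).resolve_left ?_
  rintro rfl
  rw [map_one, isConj_one_left] at hc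
  exact h.ne_one hx hc

theorem not_both (h : TSH ι) (h1 : IsConj (ι TS4.t) (ι TS4.b))
    (h2 : IsConj (ι TS4.t) (ι (TS4.t * TS4.b))) : False := by
  obtain ⟨g, hg⟩ := isConj_iff.1 h1.symm
  have key : ∀ x : TS4, TS4.b * x = x * TS4.b → ∃ p, ι p = g * ι x * g⁻¹ := fun x hx => by
    refine (h.cen _).1 ?_
    rw [← hg, mem_Cen_conj, show g⁻¹ * (g * ι x * g⁻¹) * g = ι x by group, mem_Cen, ← map_mul,
      ← map_mul, hx]
  obtain ⟨p, hp⟩ := key TS4.z (by decide)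
  obtain ⟨r, hr⟩ := key (TS4.t * TS4.z) (by decide)
  have cp : IsConj (ι TS4.z) (ι p) := isConj_iff.2 ⟨g, hp.symm⟩
  have cr : IsConj (ι (TS4.t * TS4.z)) (ι r) := isConj_iff.2 ⟨g, hr.symm⟩
  have e1 : ∃ q, p = q * TS4.z * q⁻¹ := by
    rcases h.classify (by decide) (by decide) cp with rfl | ⟨q, rfl | rfl | rfl | rfl⟩
    · exact absurd cp.symm h.tz
    · exact ⟨q, rfl⟩
    · exact absurd (cp.trans (conj _ q).symm) h.ztz
    · exact absurd ((h1.trans (conj _ q)).trans cp.symm) h.tz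
    · exact absurd ((h2.trans (conj _ q)).trans cp.symm) h.tz
  have e2 : ∃ q, r = q * (TS4.t * TS4.z) * q⁻¹ := by
    rcases h.classify (by decide) (by decide) cr with rfl | ⟨q, rfl | rfl | rfl | rfl⟩
    · exact absurd cr.symm h.ttz
    · exact absurd ((conj _ q).trans cr.symm) h.ztz
    · exact ⟨q, rfl⟩
    · exact absurd ((h1.trans (conj _ q)).trans cr.symm) h.ttz
    · exact absurd ((h2.trans (conj _ q)).trans cr.symm) h.ttz
  obtain ⟨q, rfl⟩ := e1
  obtain ⟨q', rfl⟩ := e2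
  have e3 : ι (q * TS4.z * q⁻¹ * (q' * (TS4.t * TS4.z) * q'⁻¹)) = g * ι TS4.t * g⁻¹ := by
    rw [map_mul, hp, hr, show g * ι TS4.z * g⁻¹ * (g * ι (TS4.t * TS4.z) * g⁻¹) =
      g * (ι TS4.z * ι (TS4.t * TS4.z)) * g⁻¹ by group, ← map_mul,
      show TS4.z * (TS4.t * TS4.z) = TS4.t by decide]
  rcases TS4.prod_conj q q' with e | ⟨w, e⟩
  · rw [e, ← hg] at e3
    have e4 : ι TS4.b = ι TS4.t := by
      rw [hg] at e3
      exact (MulAut.conj g).injective (hg.trans e3)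
    exact absurd (h.inj e4) (by decide)
  · rw [e] at e3
    exact h.ttz ((isConj_iff.2 ⟨g, e3.symm⟩).trans (conj _ w).symm)

theorem card_dvd (h : TSH ι) {x : G} (hx : x ∈ Cen (ι TS4.z)) : x ^ 4 = 1 := by
  obtain ⟨p, rfl⟩ := (h.cen _).1 (h.cz hx)
  have h1 : TS4.z * p = p * TS4.z := h.inj (by rw [map_mul, map_mul]; exact mem_Cen.1 hx)
  have h2 : ∀ p : TS4, TS4.z * p = p * TS4.z → p ^ 4 = 1 := by decide +kernel
  rw [← map_pow, h2 p h1, map_one]

theorem core_bot (h : TSH ι) : pPrimeCore 2 G = ⊥ := by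
  have hN : (pPrimeCore 2 G).Normal := inferInstance
  have hodd : ∀ x ∈ pPrimeCore 2 G, x ^ 4 = 1 → x = 1 := fun x hx h4 => by
    have h1 := H4.coprime_orderOf_of_mem (H4.coprime_card_pPrimeCore 2 G) hx
    have h2 := orderOf_dvd_of_pow_eq_one h4
    rw [← orderOf_eq_one_iff]
    exact Nat.Coprime.eq_one_of_dvd (h1.pow_right 2) h2
  have key : ∀ q : TS4, ∀ y ∈ pPrimeCore 2 G,
      ι (q * TS4.z * q⁻¹) * y * (ι (q * TS4.z * q⁻¹))⁻¹ = y⁻¹ := fun q y hy => by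
    refine inv_of_fpf ?_ (fun z hz => hN.conj_mem z hz _) (fun z hz hc => ?_) hy
    · rw [← map_mul, show q * TS4.z * q⁻¹ * (q * TS4.z * q⁻¹) = q * (TS4.z * TS4.z) * q⁻¹ by group,
        show TS4.z * TS4.z = 1 by decide, mul_one, mul_inv_cancel, map_one]
    · rw [map_mul, map_mul, map_inv, mem_Cen_conj] at hc
      have h1 := hodd _ (by simpa using hN.conj_mem z hz (ι q)⁻¹) (h.card_dvd hc)
      calc z = ι q * ((ι q)⁻¹ * z * ι q) * (ι q)⁻¹ := by group
        _ = 1 := by rw [h1]; group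
  rw [eq_bot_iff]
  intro y hy
  have k1 := key 1 y hy
  have k2 := key TS4.c _ (inv_mem hy)
  have k3 := key (TS4.b * TS4.c) y hy
  rw [inv_inv, ← k1] at k2
  rw [show TS4.b * TS4.c * TS4.z * (TS4.b * TS4.c)⁻¹ =
    TS4.c * TS4.z * TS4.c⁻¹ * (1 * TS4.z * 1⁻¹) by decide, map_mul, mul_inv_rev] at k3
  refine hodd y hy ?_
  have k4 : y = y⁻¹ := by
    rw [← k3]
    exact k2.symm.trans (by group)
  calc y ^ 4 = (y * y) ^ 2 := by rw [← sq, ← pow_mul]
    _ = 1 := by nth_rw 2 [k4]; simp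

theorem central (h : TSH ι) (h1 : ¬ IsConj (ι TS4.t) (ι TS4.b))
    (h2 : ¬ IsConj (ι TS4.t) (ι (TS4.t * TS4.b))) : Cen (ι TS4.t) = ⊤ := by
  have ot : orderOf (ι TS4.t) = 2 := by
    rw [orderOf_injective ι h.inj]
    exact orderOf_two_of (by decide) (by decide)
  rw [eq_top_iff]
  intro g _
  refine mem_Cen.2 (H3.commute_of_isolated h.core_bot ot (fun g hg => ?_) g).symm
  obtain ⟨p, hp⟩ := (h.cen _).1 (mem_Cen.2 hg.eq)
  have cp : IsConj (ι TS4.t) (ι p) := isConj_iff.2 ⟨g, hp.symm⟩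
  rcases h.classify (by decide) (by decide) cp with rfl | ⟨q, rfl | rfl | rfl | rfl⟩
  · exact hp.symm
  · exact absurd (cp.trans (conj _ q).symm) h.tz
  · exact absurd (cp.trans (conj _ q).symm) h.ttz
  · exact absurd (cp.trans (conj _ q).symm) h1
  · exact absurd (cp.trans (conj _ q).symm) h2

/-- The dihedral subgroup. -/
def D0 : Subgroup TS4 := (MonoidHom.fst _ _).ker ⊓ Cen TS4.z

theorem mem_D0 {p : TS4} : p ∈ D0 ↔ p.1 = 1 ∧ TS4.z * p = p * TS4.z := by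
  rw [D0, mem_inf, mem_Cen]; rfl

theorem card_D0 : Nat.card D0 = 8 := by
  rw [← TS4.card_cen1, ← Fintype.card_subtype, ← Nat.card_eq_fintype_card]
  exact card_subtype_congr fun _ => mem_D0

theorem isD8_D0 : IsD8 D0 := by
  refine ⟨card_D0, ?_⟩
  let v : D0 := ⟨TS4.v, mem_D0.2 (by decide)⟩
  have hv : orderOf v = 4 := by
    have : Fact (Nat.Prime 2) := ⟨Nat.prime_two⟩
    exact orderOf_eq_prime_pow (p := 2) (n := 1) (by decide) (by decide)
  refine ⟨v, ⟨TS4.b, mem_D0.2 (by decide)⟩, hv, orderOf_two_of (by decide) (by decide), ?_,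
    by decide⟩
  rw [mem_zpowers_four hv]
  decide

theorem S6 (h : TSH ι) (h1 : ¬ IsConj (ι TS4.t) (ι TS4.b))
    (h2 : IsConj (ι TS4.t) (ι (TS4.t * TS4.b))) : Nonempty (G ≃* Perm (Fin 6)) := by
  obtain ⟨m, hm⟩ := h.odd
  have hG := (Cen (ι TS4.t)).index_mul_card
  rw [h.card_cen, hm] at hG
  have hM : Nat.card (D0.map ι) = 8 := by rw [card_map_of_injective h.inj, card_D0]
  have hMi := (D0.map ι).index_mul_card
  rw [hM] at hMi
  have tt : ι TS4.t * ι TS4.t = 1 := by rw [← map_mul, show TS4.t * TS4.t = 1 by decide, map_one]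
  obtain ⟨G0, hG0, ht⟩ := exists_index_two_of_not_conj (D0.map ι) (by omega) (t := ι TS4.t)
    (by rw [sq, tt]) (by
      rintro g ⟨p, hp, e⟩
      have cp : IsConj (ι TS4.t) (ι p) := isConj_iff.2 ⟨g⁻¹, by rw [inv_inv, e]⟩
      have h3 : p * p = 1 := h.inj (by
        rw [map_mul, e, map_one, show g⁻¹ * ι TS4.t * g * (g⁻¹ * ι TS4.t * g) =
          g⁻¹ * (ι TS4.t * ι TS4.t) * g by group, tt, mul_one, inv_mul_cancel])
      rcases TS4.invol1 p h3 (mem_D0.1 hp).1 with rfl | ⟨q, rfl | rfl⟩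
      · rw [map_one, isConj_one_left] at cp
        exact h.ne_one (by decide) cp
      · exact h.tz (cp.trans (conj _ q).symm)
      · exact h1 (cp.trans (conj _ q).symm))
  have hN : G0.Normal := normal_of_index_eq_two hG0
  obtain ⟨g, hg0, hg⟩ : ∃ g ∈ G0, g * ι TS4.t * g⁻¹ = ι (TS4.t * TS4.b) := by
    obtain ⟨g, hg⟩ := isConj_iff.1 h2
    by_cases hg0 : g ∈ G0
    · exact ⟨g, hg0, hg⟩
    · exact ⟨g * ι TS4.t, (mul_mem_iff_of_index_two hG0).2 (iff_of_false hg0 ht),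
        by rw [← hg]; group⟩
  have hb' : ι TS4.b = (ι TS4.t)⁻¹ * g * ι TS4.t * g⁻¹ := by
    rw [map_mul] at hg
    calc ι TS4.b = (ι TS4.t)⁻¹ * (ι TS4.t * ι TS4.b) := by group
      _ = _ := by rw [← hg]; group
  have hb : ι TS4.b ∈ G0 := by
    rw [hb']
    exact mul_mem (by simpa using hN.conj_mem g hg0 (ι TS4.t)⁻¹) (inv_mem hg0)
  have hS : ∀ p : TS4, p.1 = 1 → ι p ∈ G0 := fun p hp => by
    obtain ⟨w, -, rfl | rfl⟩ := TS4.sq_or p hp
    · rw [map_mul]; exact mul_self_mem_of_index_two hG0 _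
    · rw [map_mul, map_mul]; exact mul_mem (mul_self_mem_of_index_two hG0 _) hb
  have hS' : ∀ p : TS4, ι p ∈ G0 → p.1 = 1 := fun p hp => by
    refine (TS4.fst_or p).resolve_right fun e => ht ?_
    have h3 := hS _ e
    rw [map_mul] at h3
    exact (mul_mem_cancel_right hp).1 h3
  let α : G0 := ⟨ι TS4.z, hS _ rfl⟩
  have hcen : Cen α = (D0.map ι).subgroupOf G0 := by
    ext x
    rw [mem_subgroupOf, mem_Cen]
    constructor
    · intro e
      have e' : ι TS4.z * x = x * ι TS4.z := congrArg Subtype.val e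
      obtain ⟨p, hp⟩ := (h.cen _).1 (h.cz (mem_Cen.2 e'))
      exact ⟨p, mem_D0.2 ⟨hS' p (hp ▸ x.2), h.inj (by rw [map_mul, map_mul, hp, e'])⟩, hp⟩
    · rintro ⟨p, hp, e⟩
      refine Subtype.ext ?_
      change ι TS4.z * x = x * ι TS4.z
      rw [← e, ← map_mul, ← map_mul, (mem_D0.1 hp).2]
  have hle : D0.map ι ≤ G0 := by
    rintro _ ⟨p, hp, rfl⟩
    exact hS p (mem_D0.1 hp).1
  have hD : IsD8 (Cen α) := by
    rw [hcen]
    exact IsD8.of_equiv ((subgroupOfEquivOfLe hle).trans (D0.equivMapOfInjective ι h.inj).symm)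
      isD8_D0
  have hc0 := G0.index_mul_card
  rw [hG0] at hc0
  have hi := (Cen α).index_mul_card
  rw [hD.1] at hi
  have hodd : Odd (Cen α).index := ⟨3 * m + 1, by omega⟩
  have hno : ∀ H : Subgroup G0, H.index ≠ 2 := by
    intro H hH
    have hHN : H.Normal := normal_of_index_eq_two hH
    let τ : MulAut G0 := MulAut.conjNormal (ι TS4.t)⁻¹
    let K : Subgroup G0 :=
      { carrier := {x | x ∈ H ↔ τ x ∈ H}
        one_mem' := by simp [one_mem]
        mul_mem' := fun {x y} hx hy => by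
          change x * y ∈ H ↔ τ (x * y) ∈ H
          rw [map_mul, mul_mem_iff_of_index_two hH, mul_mem_iff_of_index_two hH]
          exact iff_congr hx hy
        inv_mem' := fun {x} hx => by
          change x⁻¹ ∈ H ↔ τ x⁻¹ ∈ H
          rw [map_inv, inv_mem_iff, inv_mem_iff]
          exact hx }
    have hK : K = ⊤ := by
      refine eq_top_of_sq_mem (fun x => ?_) (Odd.of_dvd_nat hodd (index_dvd_of_le ?_))
      · change x * x ∈ H ↔ τ (x * x) ∈ H
        rw [map_mul]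
        exact iff_of_true (mul_self_mem_of_index_two hH _) (mul_self_mem_of_index_two hH _)
      · intro x hx
        have e : τ x = x := by
          refine Subtype.ext ?_
          have e1 := mem_Cen.1 (h.cz (mem_Cen.2 (congrArg Subtype.val (mem_Cen.1 hx))))
          change (ι TS4.t)⁻¹ * x * (ι TS4.t)⁻¹⁻¹ = x
          rw [inv_inv, mul_assoc, ← e1, inv_mul_cancel_left]
        change x ∈ H ↔ τ x ∈ H
        rw [e]
    have hbH : (⟨ι TS4.b, hb⟩ : G0) ∈ H := by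
      have e : (⟨ι TS4.b, hb⟩ : G0) = τ ⟨g, hg0⟩ * (⟨g, hg0⟩ : G0)⁻¹ := by
        refine Subtype.ext ?_
        change ι TS4.b = (ι TS4.t)⁻¹ * g * (ι TS4.t)⁻¹⁻¹ * g⁻¹
        rw [inv_inv, hb']
      rw [e, mul_mem_iff_of_index_two hH, inv_mem_iff]
      exact (show (⟨g, hg0⟩ : G0) ∈ K from hK ▸ mem_top _).symm
    have hle' : Cen α ≤ H := by
      intro x hx
      rw [hcen, mem_subgroupOf] at hx
      obtain ⟨p, hp, e⟩ := hx
      obtain ⟨w, hw, rfl | rfl⟩ := TS4.sq_or p (mem_D0.1 hp).1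
      · rw [show x = ⟨ι w, hS w hw⟩ * ⟨ι w, hS w hw⟩ from Subtype.ext (by
          rw [← e, map_mul]; rfl)]
        exact mul_self_mem_of_index_two hH _
      · rw [show x = ⟨ι w, hS w hw⟩ * ⟨ι w, hS w hw⟩ * ⟨ι TS4.b, hb⟩ from Subtype.ext (by
          rw [← e, map_mul, map_mul]; rfl)]
        exact mul_mem (mul_self_mem_of_index_two hH _) hbH
    have h3 := Odd.of_dvd_nat hodd (index_dvd_of_le hle')
    rw [hH] at h3
    exact absurd h3 (by decide)
  have oα : orderOf α = 2 := by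
    rw [Subgroup.orderOf_mk, orderOf_injective ι h.inj]
    exact orderOf_two_of (by decide) (by decide)
  rcases A6_or_psl7 hno oα hodd hD with ⟨⟨φ⟩⟩ | ⟨h3, -⟩
  · refine iso_S6 hG0 φ ht (x := ι (TS4.b * TS4.c)) (hS _ (by decide)) ?_ ?_ ?_
    · rw [orderOf_injective ι h.inj]
      have : Fact (Nat.Prime 3) := ⟨Nat.prime_three⟩
      exact orderOf_eq_prime (by decide) (by decide)
    · exact mem_Cen_comm.1 ((h.cen _).2 ⟨_, rfl⟩)
    · intro c hc e
      obtain ⟨p, rfl⟩ := (h.cen c).1 (mem_Cen_comm.1 (e ▸ mem_top _))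
      rcases TS4.central p (fun q => h.inj (by
        rw [map_mul, map_mul]; exact mem_Cen.1 (e ▸ mem_top _))) with rfl | rfl
      · exact hc (by rw [map_one]; exact one_mem _)
      · rw [mem_Cen'.1 (e ▸ mem_top g)] at hg
        exact absurd (h.inj hg) (by decide)
  · exfalso
    have h4 : Nat.card {x : G // IsConj (ι TS4.t) x} = 7 := by rw [card_class]; omega
    have h5 : Nat.card {x : G // ∃ p : TS4, (p = TS4.t ∨ ∃ q : TS4,
        p = q * (TS4.t * TS4.b) * q⁻¹) ∧ ι p = x} = 7 := by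
      rw [← TS4.card_seven, ← Fintype.card_subtype, ← Nat.card_eq_fintype_card]
      refine (Nat.card_congr (Equiv.ofBijective (fun p => ⟨ι p.1, p.1, p.2, rfl⟩) ⟨?_, ?_⟩)).symm
      · intro p q e
        exact Subtype.ext (h.inj (congrArg Subtype.val e))
      · rintro ⟨_, p, hp, rfl⟩
        exact ⟨⟨p, hp⟩, rfl⟩
    have h6 := imp_of_card_le (A := fun x : G => ∃ p : TS4, (p = TS4.t ∨ ∃ q : TS4,
        p = q * (TS4.t * TS4.b) * q⁻¹) ∧ ι p = x) (B := fun x => IsConj (ι TS4.t) x) (by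
      rintro _ ⟨p, rfl | ⟨q, rfl⟩, rfl⟩
      · exact IsConj.refl _
      · exact h2.trans (conj _ q)) (by rw [h4, h5])
    obtain ⟨p, -, hp⟩ := h6 (g⁻¹ * ι (TS4.b * TS4.c * (TS4.t * TS4.b) * (TS4.b * TS4.c)⁻¹) * g)
      ((h2.trans (conj _ (TS4.b * TS4.c))).trans (isConj_iff.2 ⟨g⁻¹, by rw [inv_inv]⟩))
    have h7 := (h.cen _).2 ⟨p, hp⟩
    rw [← mem_Cen_conj, hg, mem_Cen, ← map_mul, ← map_mul] at h7
    exact absurd (h.inj h7) (by decide)

theorem main (h : TSH ι) : Cen (ι TS4.t) = ⊤ ∨ Nonempty (G ≃* Perm (Fin 6)) := by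
  by_cases h1 : IsConj (ι TS4.t) (ι TS4.b)
  · by_cases h2 : IsConj (ι TS4.t) (ι (TS4.t * TS4.b))
    · exact (h.not_both h1 h2).elim
    · refine Or.inr (h.twist.S6 ?_ ?_)
      · change ¬ IsConj (ι (TS4.σ TS4.t)) (ι (TS4.σ TS4.b))
        rwa [TS4.σ_t, TS4.σ_b]
      · change IsConj (ι (TS4.σ TS4.t)) (ι (TS4.σ (TS4.t * TS4.b)))
        rwa [TS4.σ_t, TS4.σ_tb]
  · by_cases h2 : IsConj (ι TS4.t) (ι (TS4.t * TS4.b))
    · exact Or.inr (h.S6 h1 h2)
    · exact Or.inl (h.central h1 h2)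

end TSH

end H1
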