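import Cfsg.Agent.H1.WittCheck

/-! Search certificates for `S(4, 5, 11)` and `S(5, 6, 12)`. -/

set_option autoImplicit false
set_option maxRecDepth 100000

namespace H1.W

/-- The blocks of the standard `S(4, 5, 11)`. -/
def std11 : List ℕ :=
  [31, 103, 121, 171, 182, 213, 218, 236, 301, 314, 334, 339, 372, 391, 412, 433, 457, 482, 558,
  565, 587, 604, 626, 653, 659, 696, 710, 737, 790, 793, 803, 837, 872, 906, 932, 976, 1075, 1084,
  1101, 1110, 1130, 1166, 1177, 1189, 1219, 1264, 1291, 1301, 1318, 1368, 1377, 1426, 1448, 1476,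
  1543, 1562, 1577, 1617, 1636, 1684, 1698, 1736, 1804, 1840, 1858, 1921]

/-- The blocks of the standard `S(5, 6, 12)`. -/
def std12 : List ℕ :=
  [63, 207, 243, 252, 343, 365, 378, 414, 427, 437, 473, 486, 603, 622, 629, 669, 679, 698, 726,
  745, 783, 822, 825, 860, 867, 915, 940, 965, 970, 1008, 1117, 1131, 1142, 1175, 1198, 1209,
  1242, 1253, 1307, 1319, 1340, 1358, 1393, 1421, 1458, 1475, 1492, 1512, 1566, 1581, 1587, 1607,
  1656, 1675, 1716, 1740, 1745, 1762, 1813, 1834, 1865, 1874, 1892, 1926, 1944, 1953, 2142, 2151,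
  2169, 2203, 2221, 2230, 2261, 2282, 2333, 2350, 2355, 2379, 2420, 2439, 2488, 2508, 2514, 2529,
  2583, 2603, 2620, 2637, 2674, 2702, 2737, 2755, 2776, 2788, 2842, 2853, 2886, 2897, 2920, 2953,
  2964, 2978, 3087, 3125, 3130, 3155, 3180, 3228, 3235, 3270, 3273, 3312, 3350, 3369, 3397, 3416,
  3426, 3466, 3473, 3492, 3609, 3622, 3658, 3668, 3681, 3717, 3730, 3752, 3843, 3852, 3888, 4032]

/-- The search tree for `S(4, 5, 11)`. -/
def cert11 : Cert :=
  (.split 15 (.wlog 31 [11649936536080, 11649935553040, 11649918841360, 11649650471440,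
  11645355569680, 11576636158480, 10477124596240] (.split 39 (.wlog 103 [11649936536080,
  11649684877840, 11645406687760, 11576703988240, 10477209137680] (.split 43 (.wlog 171
  [11649936536080, 11645910004240, 11577458962960, 10478215770640] (.split 135 (.wlog 391
  [11649936536080, 11585512026640, 10490295366160] (.split 1031 (.cons (.split 75 (.cons (.split
  523 .nil) (.wlog 587 [11649936536080, 10619144385040] (.split 643 (.cons (.split 771 (.cons
  (.split 1155 (.cons (.split 323 (.cons (.split 1283 (.cons (.split 1059 (.cons (.split 45 (.cons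
  (.split 305 (.cons (.split 1409 (.cons (.split 833 (.cons (.split 1345 (.cons (.split 1601
  (.cons (.split 705 (.cons (.split 449 (.cons (.split 1569 (.cons (.split 1185 (.cons (.split
  1297 (.cons (.split 785 (.cons (.split 1169 (.cons (.split 209 (.cons (.split 561 (.cons (.split
  113 (.cons (.split 649 (.cons (.split 1097 (.cons (.split 46 (.cons (.split 616 (.cons (.split
  1856 (.cons (.split 960 (.cons (.split 1472 (.cons (.split 1728 (.cons (.split 928 (.cons
  (.split 1824 (.cons (.split 1696 (.cons (.split 1440 (.cons (.split 1632 (.cons (.split 1248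
  (.cons (.split 480 (.cons (.split 1680 (.cons (.split 1424 (.cons (.split 1360 (.cons (.split
  688 (.cons (.split 624 (.cons (.split 368 (.cons (.split 1800 (.cons (.split 904 (.cons (.split
  1128 (.cons (.split 232 (.cons (.split 1560 (.cons (.split 408 (.cons (.split 600 (.cons (.split
  216 (.cons (.split 1080 (.cons (.split 312 (.cons (.split 708 (.cons (.split 1316 (.cons (.split
  788 (.cons (.split 1108 (.cons (.split 180 (.cons (.split 1164 (.cons (.split 332 (.cons (.fin
  11649936536080) .nil)) .nil)) .nil)) .nil)) .nil)) .nil)) .nil)) .nil)) .nil)) .nil)) .nil))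
  .nil)) .nil)) .nil)) .nil)) .nil)) .nil)) .nil)) .nil)) .nil)) .nil)) .nil)) .nil)) .nil))
  .nil)) .nil)) .nil)) .nil)) .nil)) .nil)) .nil)) .nil)) .nil)) .nil)) .nil)) (.cons (.split 1128
  (.cons (.split 1728 (.cons (.split 1472 (.cons (.split 960 (.cons (.split 1856 (.cons (.split
  1440 (.cons (.split 1696 (.cons (.split 1824 (.cons (.split 928 (.cons (.split 1632 (.cons
  (.split 864 (.cons (.split 480 (.cons (.split 1808 (.cons (.split 912 (.cons (.split 720 (.cons
  (.split 1328 (.cons (.split 1136 (.cons (.split 240 (.cons (.split 1672 (.cons (.split 1416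
  (.cons (.split 616 (.cons (.split 360 (.cons (.split 1560 (.cons (.split 408 (.cons (.split 1112
  (.cons (.split 344 (.cons (.split 568 (.cons (.split 184 (.cons (.split 1348 (.cons (.split 676
  (.cons (.split 1172 (.cons (.split 596 (.cons (.split 308 (.cons (.split 780 (.cons (.split 204
  (.cons (.fin 9322585403920) .nil)) .nil)) .nil)) .nil)) .nil)) .nil)) .nil)) .nil)) .nil))
  .nil)) .nil)) .nil)) .nil)) .nil)) .nil)) .nil)) .nil)) .nil)) .nil)) .nil)) .nil)) .nil))
  .nil)) .nil)) .nil)) .nil)) .nil)) .nil)) .nil)) .nil)) .nil)) .nil)) .nil)) .nil)) .nil))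
  .nil))) .nil)) .nil)) .nil)) .nil)) .nil)) .nil)) .nil)) .nil)) .nil)) .nil)) .nil)) .nil))
  .nil)) .nil)) .nil)) .nil)) .nil)) (.cons (.split 561 (.cons (.split 1601 (.cons (.split 897
  (.cons (.split 1665 (.cons (.split 1409 (.cons (.split 705 (.cons (.split 449 (.cons (.split
  1313 (.cons (.split 1121 (.cons (.split 1553 (.cons (.split 785 (.cons (.split 1105 (.cons
  (.split 209 (.cons (.split 305 (.cons (.split 177 (.cons (.split 1161 (.cons (.split 329 (.cons
  (.split 46 (.cons (.split 424 (.cons (.split 1472 (.cons (.split 1920 (.cons (.split 960 (.cons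
  (.split 1728 (.cons (.split 1824 (.cons (.split 928 (.cons (.split 1376 (.cons (.split 1632
  (.cons (.split 864 (.cons (.split 1248 (.cons (.split 736 (.cons (.split 1680 (.cons (.split
  1616 (.cons (.split 1360 (.cons (.split 688 (.cons (.split 432 (.cons (.split 368 (.cons (.split
  1800 (.cons (.split 456 (.cons (.split 1576 (.cons (.split 232 (.cons (.split 792 (.cons (.split
  1176 (.cons (.split 408 (.cons (.split 600 (.cons (.split 1080 (.cons (.split 120 (.cons (.split
  836 (.cons (.split 1188 (.cons (.split 1300 (.cons (.split 212 (.cons (.split 564 (.cons (.split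
  652 (.cons (.split 1100 (.cons (.fin 5942249009680) .nil)) .nil)) .nil)) .nil)) .nil)) .nil))
  .nil)) .nil)) .nil)) .nil)) .nil)) .nil)) .nil)) .nil)) .nil)) .nil)) .nil)) .nil)) .nil))
  .nil)) .nil)) .nil)) .nil)) .nil)) .nil)) .nil)) .nil)) .nil)) .nil)) .nil)) .nil)) .nil))
  .nil)) .nil)) .nil)) (.cons (.split 1576 (.cons (.split 1440 (.cons (.split 1920 (.cons (.split
  1472 (.cons (.split 1728 (.cons (.split 960 (.cons (.split 928 (.cons (.split 1376 (.cons
  (.split 864 (.cons (.split 1632 (.cons (.split 1248 (.cons (.split 736 (.cons (.split 1808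
  (.cons (.split 848 (.cons (.split 464 (.cons (.split 1584 (.cons (.split 1200 (.cons (.split 240
  (.cons (.split 1672 (.cons (.split 1608 (.cons (.split 424 (.cons (.split 360 (.cons (.split
  1304 (.cons (.split 664 (.cons (.split 408 (.cons (.split 1112 (.cons (.split 568 (.cons (.split
  120 (.cons (.split 1348 (.cons (.split 676 (.cons (.split 1172 (.cons (.split 596 (.cons (.split
  308 (.cons (.split 780 (.cons (.split 204 (.cons (.fin 8269600141840) .nil)) .nil)) .nil))
  .nil)) .nil)) .nil)) .nil)) .nil)) .nil)) .nil)) .nil)) .nil)) .nil)) .nil)) .nil)) .nil))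
  .nil)) .nil)) .nil)) .nil)) .nil)) .nil)) .nil)) .nil)) .nil)) .nil)) .nil)) .nil)) .nil))
  .nil)) .nil)) .nil)) .nil)) .nil)) .nil)) .nil))) .nil)) .nil)) .nil)) .nil)) .nil)) .nil))
  .nil)) .nil)) .nil)) .nil)) .nil)) .nil)) .nil)) .nil)) .nil)) .nil)) .nil)) (.cons (.split 1097
  (.cons (.split 1553 (.cons (.split 1409 (.cons (.split 1665 (.cons (.split 897 (.cons (.split
  1601 (.cons (.split 1345 (.cons (.split 673 (.cons (.split 353 (.cons (.split 225 (.cons (.split
  1169 (.cons (.split 401 (.cons (.split 593 (.cons (.split 561 (.cons (.split 305 (.cons (.split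
  777 (.cons (.split 201 (.cons (.split 46 (.cons (.split 424 (.cons (.split 1824 (.cons (.split
  1920 (.cons (.split 1856 (.cons (.split 1472 (.cons (.split 1728 (.cons (.split 1696 (.cons
  (.split 1376 (.cons (.split 864 (.cons (.split 1248 (.cons (.split 736 (.cons (.split 480 (.cons
  (.split 912 (.cons (.split 1616 (.cons (.split 720 (.cons (.split 1328 (.cons (.split 432 (.cons
  (.split 1136 (.cons (.split 1416 (.cons (.split 456 (.cons (.split 1576 (.cons (.split 616
  (.cons (.split 1560 (.cons (.split 792 (.cons (.split 1176 (.cons (.split 344 (.cons (.split 184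
  (.cons (.split 120 (.cons (.split 836 (.cons (.split 1188 (.cons (.split 1300 (.cons (.split 212
  (.cons (.split 564 (.cons (.split 652 (.cons (.split 1100 (.cons (.fin 6982132314640) .nil))
  .nil)) .nil)) .nil)) .nil)) .nil)) .nil)) .nil)) .nil)) .nil)) .nil)) .nil)) .nil)) .nil))
  .nil)) .nil)) .nil)) .nil)) .nil)) .nil)) .nil)) .nil)) .nil)) .nil)) .nil)) .nil)) .nil))
  .nil)) .nil)) .nil)) .nil)) .nil)) .nil)) .nil)) .nil)) (.cons (.split 1576 (.cons (.split 1856
  (.cons (.split 1920 (.cons (.split 1728 (.cons (.split 1472 (.cons (.split 1696 (.cons (.split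
  928 (.cons (.split 1376 (.cons (.split 864 (.cons (.split 1248 (.cons (.split 736 (.cons (.split
  480 (.cons (.split 1424 (.cons (.split 848 (.cons (.split 464 (.cons (.split 1584 (.cons (.split
  1200 (.cons (.split 624 (.cons (.split 904 (.cons (.split 1608 (.cons (.split 424 (.cons (.split
  1128 (.cons (.split 1560 (.cons (.split 1304 (.cons (.split 664 (.cons (.split 216 (.cons
  (.split 312 (.cons (.split 120 (.cons (.split 708 (.cons (.split 1316 (.cons (.split 788 (.cons
  (.split 1108 (.cons (.split 180 (.cons (.split 1164 (.cons (.split 332 (.cons (.fin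
  10610053231120) .nil)) .nil)) .nil)) .nil)) .nil)) .nil)) .nil)) .nil)) .nil)) .nil)) .nil))
  .nil)) .nil)) .nil)) .nil)) .nil)) .nil)) .nil)) .nil)) .nil)) .nil)) .nil)) .nil)) .nil))
  .nil)) .nil)) .nil)) .nil)) .nil)) .nil)) .nil)) .nil)) .nil)) .nil)) .nil)) .nil))) .nil))
  .nil)) .nil)) .nil)) .nil)) .nil)) .nil)) .nil)) .nil)) .nil)) .nil)) .nil)) .nil)) .nil))
  .nil)) .nil)) .nil)) .nil)))) .nil)) .nil)) .nil)) .nil)) .nil)) .nil)) .nil))) .nil)) .nil))
  .nil)) .nil)) .nil))

/-- The search tree for `S(5, 6, 12)`. -/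
def cert12 : Cert :=
  (.split 31 (.wlog 63 [205163983024656, 205163967296016, 205163699909136, 205159405990416,
  205090687562256, 203991176983056, 186398991987216] (.split 79 (.wlog 207 [205163983024656,
  205159956492816, 205091505451536, 203992262259216, 186400344650256] (.split 87 (.wlog 343
  [205163983024656, 205099558515216, 204004341854736, 186416450777616] (.split 271 (.wlog 783
  [205163983024656, 204133190873616, 186609724305936] (.split 2063 (.cons (.split 151 (.cons
  (.split 1047 .nil) (.wlog 1175 [205163983024656, 188671308608016] (.split 1287 (.cons (.split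
  1543 (.cons (.split 2311 (.cons (.split 647 (.cons (.split 2567 (.cons (.split 2119 (.cons
  (.split 91 (.cons (.split 611 (.cons (.split 2819 (.cons (.split 1667 (.cons (.split 2691 (.cons
  (.split 3203 (.cons (.split 1411 (.cons (.split 899 (.cons (.split 3139 (.cons (.split 2371
  (.cons (.split 2595 (.cons (.split 1571 (.cons (.split 2339 (.cons (.split 419 (.cons (.split
  1123 (.cons (.split 227 (.cons (.split 1299 (.cons (.split 2195 (.cons (.split 93 (.cons (.split
  1114 (.cons (.split 3266 (.cons (.split 3714 (.cons (.split 3458 (.cons (.split 2946 (.cons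
  (.split 1922 (.cons (.split 3968 (.cons (.split 3280 (.cons (.split 3488 (.cons (.split 3744
  (.cons (.split 3872 (.cons (.split 1952 (.cons (.split 2784 (.cons (.split 2912 (.cons (.split
  1888 (.cons (.split 1760 (.cons (.split 3680 (.cons (.split 3424 (.cons (.split 2528 (.cons
  (.split 1504 (.cons (.split 992 (.cons (.split 3472 (.cons (.split 1936 (.cons (.split 2960
  (.cons (.split 2768 (.cons (.split 3664 (.cons (.split 3408 (.cons (.split 1744 (.cons (.split
  1872 (.cons (.split 2896 (.cons (.split 2512 (.cons (.split 1488 (.cons (.split 2736 (.cons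
  (.split 1712 (.cons (.split 2480 (.cons (.split 1456 (.cons (.split 2672 (.cons (.split 1648
  (.cons (.split 2416 (.cons (.split 1392 (.cons (.split 3848 (.cons (.split 2952 (.cons (.split
  3656 (.cons (.split 1864 (.cons (.split 3272 (.cons (.split 1736 (.cons (.split 2504 (.cons
  (.split 968 (.cons (.split 3368 (.cons (.split 1832 (.cons (.split 936 (.cons (.split 3176
  (.cons (.split 2280 (.cons (.split 744 (.cons (.split 3608 (.cons (.split 2840 (.cons (.split
  3224 (.cons (.split 856 (.cons (.split 472 (.cons (.split 3128 (.cons (.split 2616 (.cons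
  (.split 1336 (.cons (.split 824 (.cons (.split 1208 (.cons (.split 696 (.cons (.split 2168
  (.cons (.split 376 (.cons (.split 248 (.cons (.split 3716 (.cons (.split 3396 (.cons (.split
  2884 (.cons (.split 964 (.cons (.split 3620 (.cons (.split 2852 (.cons (.split 1252 (.cons
  (.split 484 (.cons (.split 3348 (.cons (.split 1812 (.cons (.split 2260 (.cons (.split 724
  (.cons (.split 3124 (.cons (.split 820 (.cons (.split 2228 (.cons (.split 436 (.cons (.split
  1140 (.cons (.split 628 (.cons (.split 2700 (.cons (.split 1420 (.cons (.split 2636 (.cons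
  (.split 1356 (.cons (.split 1580 (.cons (.split 2348 (.cons (.split 2220 (.cons (.split 1196
  (.cons (.split 620 (.cons (.split 364 (.cons (.split 1564 (.cons (.split 2332 (.cons (.split 668
  (.cons (.split 412 (.cons (.split 2140 (.cons (.fin 205163983024656) .nil)) .nil)) .nil)) .nil))
  .nil)) .nil)) .nil)) .nil)) .nil)) .nil)) .nil)) .nil)) .nil)) .nil)) .nil)) .nil)) .nil))
  .nil)) .nil)) .nil)) .nil)) .nil)) .nil)) .nil)) .nil)) .nil)) .nil)) .nil)) .nil)) .nil))
  .nil)) .nil)) .nil)) .nil)) .nil)) .nil)) .nil)) .nil)) .nil)) .nil)) .nil)) .nil)) .nil))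
  .nil)) .nil)) .nil)) .nil)) .nil)) .nil)) .nil)) .nil)) .nil)) .nil)) .nil)) .nil)) .nil))
  .nil)) .nil)) .nil)) .nil)) .nil)) .nil)) .nil)) .nil)) .nil)) .nil)) .nil)) .nil)) .nil))
  .nil)) .nil)) .nil)) .nil)) .nil)) .nil)) .nil)) .nil)) .nil)) .nil)) .nil)) .nil)) .nil))
  .nil)) .nil)) .nil)) .nil)) .nil)) .nil)) .nil)) .nil)) .nil)) .nil)) .nil)) .nil)) .nil))
  .nil)) .nil)) .nil)) .nil)) .nil)) .nil)) (.cons (.split 2138 (.cons (.split 2658 (.cons (.split
  3394 (.cons (.split 2882 (.cons (.split 1858 (.cons (.split 3904 (.cons (.split 3266 (.cons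
  (.split 3458 (.cons (.split 3714 (.cons (.split 1922 (.cons (.split 2946 (.cons (.split 1730
  (.cons (.split 2498 (.cons (.split 962 (.cons (.split 3362 (.cons (.split 3488 (.cons (.split
  3872 (.cons (.split 3744 (.cons (.split 2976 (.cons (.split 3424 (.cons (.split 1888 (.cons
  (.split 2912 (.cons (.split 3296 (.cons (.split 2784 (.cons (.split 1760 (.cons (.split 1504
  (.cons (.split 992 (.cons (.split 3728 (.cons (.split 2960 (.cons (.split 1936 (.cons (.split
  3408 (.cons (.split 3664 (.cons (.split 1872 (.cons (.split 2768 (.cons (.split 2512 (.cons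
  (.split 1488 (.cons (.split 2736 (.cons (.split 1712 (.cons (.split 2480 (.cons (.split 1456
  (.cons (.split 2672 (.cons (.split 1648 (.cons (.split 2416 (.cons (.split 1392 (.cons (.split
  3848 (.cons (.split 3464 (.cons (.split 3656 (.cons (.split 1736 (.cons (.split 2504 (.cons
  (.split 968 (.cons (.split 1832 (.cons (.split 936 (.cons (.split 3176 (.cons (.split 2280
  (.cons (.split 744 (.cons (.split 3608 (.cons (.split 2840 (.cons (.split 3224 (.cons (.split
  856 (.cons (.split 1240 (.cons (.split 472 (.cons (.split 3128 (.cons (.split 2616 (.cons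
  (.split 1336 (.cons (.split 824 (.cons (.split 1208 (.cons (.split 696 (.cons (.split 376 (.cons
  (.split 248 (.cons (.split 1924 (.cons (.split 2884 (.cons (.split 3268 (.cons (.split 3620
  (.cons (.split 2852 (.cons (.split 1252 (.cons (.split 484 (.cons (.split 3348 (.cons (.split
  1812 (.cons (.split 2260 (.cons (.split 724 (.cons (.split 3124 (.cons (.split 820 (.cons
  (.split 2228 (.cons (.split 436 (.cons (.split 1140 (.cons (.split 628 (.cons (.split 2700
  (.cons (.split 1420 (.cons (.split 2636 (.cons (.split 1356 (.cons (.split 1580 (.cons (.split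
  2348 (.cons (.split 2220 (.cons (.split 1196 (.cons (.split 620 (.cons (.split 364 (.cons
  (.split 1564 (.cons (.split 2332 (.cons (.split 668 (.cons (.split 412 (.cons (.split 1116
  (.cons (.fin 167926364910096) .nil)) .nil)) .nil)) .nil)) .nil)) .nil)) .nil)) .nil)) .nil))
  .nil)) .nil)) .nil)) .nil)) .nil)) .nil)) .nil)) .nil)) .nil)) .nil)) .nil)) .nil)) .nil))
  .nil)) .nil)) .nil)) .nil)) .nil)) .nil)) .nil)) .nil)) .nil)) .nil)) .nil)) .nil)) .nil))
  .nil)) .nil)) .nil)) .nil)) .nil)) .nil)) .nil)) .nil)) .nil)) .nil)) .nil)) .nil)) .nil))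
  .nil)) .nil)) .nil)) .nil)) .nil)) .nil)) .nil)) .nil)) .nil)) .nil)) .nil)) .nil)) .nil))
  .nil)) .nil)) .nil)) .nil)) .nil)) .nil)) .nil)) .nil)) .nil)) .nil)) .nil)) .nil)) .nil))
  .nil)) .nil)) .nil)) .nil)) .nil)) .nil)) .nil)) .nil)) .nil)) .nil)) .nil)) .nil)) .nil))
  .nil)) .nil)) .nil)) .nil)) .nil)) .nil)) .nil)) .nil)) .nil)) .nil)) .nil)) .nil)) .nil))
  .nil)) .nil))) .nil)) .nil)) .nil)) .nil)) .nil)) .nil)) .nil)) .nil)) .nil)) .nil)) .nil))
  .nil)) .nil)) .nil)) .nil)) .nil)) .nil)) (.cons (.split 1123 (.cons (.split 3203 (.cons (.split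
  1795 (.cons (.split 3331 (.cons (.split 2819 (.cons (.split 1411 (.cons (.split 899 (.cons
  (.split 2627 (.cons (.split 2243 (.cons (.split 3107 (.cons (.split 1571 (.cons (.split 2211
  (.cons (.split 419 (.cons (.split 611 (.cons (.split 355 (.cons (.split 2323 (.cons (.split 659
  (.cons (.split 93 (.cons (.split 602 (.cons (.split 2882 (.cons (.split 3842 (.cons (.split 2946
  (.cons (.split 3458 (.cons (.split 1922 (.cons (.split 3968 (.cons (.split 2888 (.cons (.split
  2976 (.cons (.split 3872 (.cons (.split 3744 (.cons (.split 1952 (.cons (.split 3424 (.cons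
  (.split 1888 (.cons (.split 3680 (.cons (.split 3296 (.cons (.split 2784 (.cons (.split 1760
  (.cons (.split 2528 (.cons (.split 1504 (.cons (.split 992 (.cons (.split 3728 (.cons (.split
  1936 (.cons (.split 3472 (.cons (.split 3408 (.cons (.split 3664 (.cons (.split 2896 (.cons
  (.split 1872 (.cons (.split 2768 (.cons (.split 1744 (.cons (.split 2512 (.cons (.split 1488
  (.cons (.split 2736 (.cons (.split 1712 (.cons (.split 2480 (.cons (.split 1456 (.cons (.split
  2672 (.cons (.split 1648 (.cons (.split 2416 (.cons (.split 1392 (.cons (.split 3464 (.cons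
  (.split 2952 (.cons (.split 3656 (.cons (.split 1864 (.cons (.split 1736 (.cons (.split 3272
  (.cons (.split 2504 (.cons (.split 968 (.cons (.split 3368 (.cons (.split 1832 (.cons (.split
  936 (.cons (.split 3176 (.cons (.split 2280 (.cons (.split 744 (.cons (.split 3608 (.cons
  (.split 2840 (.cons (.split 3224 (.cons (.split 1240 (.cons (.split 472 (.cons (.split 3128
  (.cons (.split 2616 (.cons (.split 1336 (.cons (.split 824 (.cons (.split 1208 (.cons (.split
  696 (.cons (.split 2168 (.cons (.split 376 (.cons (.split 248 (.cons (.split 3844 (.cons (.split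
  3268 (.cons (.split 2756 (.cons (.split 1476 (.cons (.split 3620 (.cons (.split 3236 (.cons
  (.split 868 (.cons (.split 484 (.cons (.split 3348 (.cons (.split 916 (.cons (.split 3156 (.cons
  (.split 724 (.cons (.split 1588 (.cons (.split 2356 (.cons (.split 820 (.cons (.split 2228
  (.cons (.split 1140 (.cons (.split 244 (.cons (.split 2700 (.cons (.split 1676 (.cons (.split
  2380 (.cons (.split 1356 (.cons (.split 2604 (.cons (.split 2348 (.cons (.split 1196 (.cons
  (.split 428 (.cons (.split 1132 (.cons (.split 620 (.cons (.split 1564 (.cons (.split 1308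
  (.cons (.split 2204 (.cons (.split 412 (.cons (.split 2140 (.cons (.fin 113840982602256) .nil))
  .nil)) .nil)) .nil)) .nil)) .nil)) .nil)) .nil)) .nil)) .nil)) .nil)) .nil)) .nil)) .nil))
  .nil)) .nil)) .nil)) .nil)) .nil)) .nil)) .nil)) .nil)) .nil)) .nil)) .nil)) .nil)) .nil))
  .nil)) .nil)) .nil)) .nil)) .nil)) .nil)) .nil)) .nil)) .nil)) .nil)) .nil)) .nil)) .nil))
  .nil)) .nil)) .nil)) .nil)) .nil)) .nil)) .nil)) .nil)) .nil)) .nil)) .nil)) .nil)) .nil))
  .nil)) .nil)) .nil)) .nil)) .nil)) .nil)) .nil)) .nil)) .nil)) .nil)) .nil)) .nil)) .nil))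
  .nil)) .nil)) .nil)) .nil)) .nil)) .nil)) .nil)) .nil)) .nil)) .nil)) .nil)) .nil)) .nil))
  .nil)) .nil)) .nil)) .nil)) .nil)) .nil)) .nil)) .nil)) .nil)) .nil)) .nil)) .nil)) .nil))
  .nil)) .nil)) .nil)) .nil)) .nil)) .nil)) .nil)) .nil)) .nil)) (.cons (.split 2138 (.cons
  (.split 3170 (.cons (.split 1858 (.cons (.split 3842 (.cons (.split 1922 (.cons (.split 3458
  (.cons (.split 2946 (.cons (.split 3968 (.cons (.split 2882 (.cons (.split 2754 (.cons (.split
  3266 (.cons (.split 1730 (.cons (.split 2498 (.cons (.split 1474 (.cons (.split 3362 (.cons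
  (.split 3872 (.cons (.split 2976 (.cons (.split 3744 (.cons (.split 3488 (.cons (.split 3424
  (.cons (.split 2912 (.cons (.split 1888 (.cons (.split 3296 (.cons (.split 2784 (.cons (.split
  1760 (.cons (.split 1504 (.cons (.split 992 (.cons (.split 3728 (.cons (.split 2960 (.cons
  (.split 1936 (.cons (.split 3408 (.cons (.split 3664 (.cons (.split 1872 (.cons (.split 2768
  (.cons (.split 2512 (.cons (.split 1488 (.cons (.split 2736 (.cons (.split 1712 (.cons (.split
  2480 (.cons (.split 1456 (.cons (.split 2672 (.cons (.split 1648 (.cons (.split 2416 (.cons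
  (.split 1392 (.cons (.split 3848 (.cons (.split 3464 (.cons (.split 3656 (.cons (.split 1736
  (.cons (.split 2504 (.cons (.split 968 (.cons (.split 1832 (.cons (.split 936 (.cons (.split
  3176 (.cons (.split 2280 (.cons (.split 744 (.cons (.split 3608 (.cons (.split 2840 (.cons
  (.split 3224 (.cons (.split 856 (.cons (.split 1240 (.cons (.split 472 (.cons (.split 3128
  (.cons (.split 2616 (.cons (.split 1336 (.cons (.split 824 (.cons (.split 1208 (.cons (.split
  696 (.cons (.split 376 (.cons (.split 248 (.cons (.split 1924 (.cons (.split 2884 (.cons (.split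
  3268 (.cons (.split 3620 (.cons (.split 3236 (.cons (.split 868 (.cons (.split 484 (.cons
  (.split 3348 (.cons (.split 916 (.cons (.split 3156 (.cons (.split 724 (.cons (.split 1588
  (.cons (.split 2356 (.cons (.split 820 (.cons (.split 2228 (.cons (.split 1140 (.cons (.split
  244 (.cons (.split 2700 (.cons (.split 1676 (.cons (.split 2380 (.cons (.split 1356 (.cons
  (.split 2604 (.cons (.split 2348 (.cons (.split 1196 (.cons (.split 428 (.cons (.split 1132
  (.cons (.split 620 (.cons (.split 1564 (.cons (.split 1308 (.cons (.split 2204 (.cons (.split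
  412 (.cons (.split 604 (.cons (.fin 151078600716816) .nil)) .nil)) .nil)) .nil)) .nil)) .nil))
  .nil)) .nil)) .nil)) .nil)) .nil)) .nil)) .nil)) .nil)) .nil)) .nil)) .nil)) .nil)) .nil))
  .nil)) .nil)) .nil)) .nil)) .nil)) .nil)) .nil)) .nil)) .nil)) .nil)) .nil)) .nil)) .nil))
  .nil)) .nil)) .nil)) .nil)) .nil)) .nil)) .nil)) .nil)) .nil)) .nil)) .nil)) .nil)) .nil))
  .nil)) .nil)) .nil)) .nil)) .nil)) .nil)) .nil)) .nil)) .nil)) .nil)) .nil)) .nil)) .nil))
  .nil)) .nil)) .nil)) .nil)) .nil)) .nil)) .nil)) .nil)) .nil)) .nil)) .nil)) .nil)) .nil))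
  .nil)) .nil)) .nil)) .nil)) .nil)) .nil)) .nil)) .nil)) .nil)) .nil)) .nil)) .nil)) .nil))
  .nil)) .nil)) .nil)) .nil)) .nil)) .nil)) .nil)) .nil)) .nil)) .nil)) .nil)) .nil)) .nil))
  .nil)) .nil)) .nil)) .nil)) .nil))) .nil)) .nil)) .nil)) .nil)) .nil)) .nil)) .nil)) .nil))
  .nil)) .nil)) .nil)) .nil)) .nil)) .nil)) .nil)) .nil)) .nil)) (.cons (.split 2195 (.cons
  (.split 3107 (.cons (.split 2819 (.cons (.split 3331 (.cons (.split 1795 (.cons (.split 3203
  (.cons (.split 2691 (.cons (.split 1347 (.cons (.split 707 (.cons (.split 451 (.cons (.split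
  2339 (.cons (.split 803 (.cons (.split 1187 (.cons (.split 1123 (.cons (.split 611 (.cons
  (.split 1555 (.cons (.split 403 (.cons (.split 93 (.cons (.split 602 (.cons (.split 1858 (.cons
  (.split 3394 (.cons (.split 3842 (.cons (.split 3458 (.cons (.split 2946 (.cons (.split 3714
  (.cons (.split 3968 (.cons (.split 1864 (.cons (.split 1872 (.cons (.split 2888 (.cons (.split
  2896 (.cons (.split 3856 (.cons (.split 3744 (.cons (.split 1952 (.cons (.split 2976 (.cons
  (.split 3680 (.cons (.split 3424 (.cons (.split 3296 (.cons (.split 2784 (.cons (.split 1760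
  (.cons (.split 2528 (.cons (.split 1504 (.cons (.split 992 (.cons (.split 3728 (.cons (.split
  1936 (.cons (.split 3472 (.cons (.split 3408 (.cons (.split 3664 (.cons (.split 2768 (.cons
  (.split 1744 (.cons (.split 2512 (.cons (.split 1488 (.cons (.split 2736 (.cons (.split 1712
  (.cons (.split 2480 (.cons (.split 1456 (.cons (.split 2672 (.cons (.split 1648 (.cons (.split
  2416 (.cons (.split 1392 (.cons (.split 3464 (.cons (.split 2952 (.cons (.split 3656 (.cons
  (.split 3272 (.cons (.split 1736 (.cons (.split 2504 (.cons (.split 968 (.cons (.split 3368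
  (.cons (.split 1832 (.cons (.split 936 (.cons (.split 3176 (.cons (.split 2280 (.cons (.split
  744 (.cons (.split 3608 (.cons (.split 2840 (.cons (.split 3224 (.cons (.split 1240 (.cons
  (.split 472 (.cons (.split 3128 (.cons (.split 2616 (.cons (.split 1336 (.cons (.split 824
  (.cons (.split 1208 (.cons (.split 696 (.cons (.split 2168 (.cons (.split 376 (.cons (.split 248
  (.cons (.split 3844 (.cons (.split 2756 (.cons (.split 1476 (.cons (.split 964 (.cons (.split
  2852 (.cons (.split 3236 (.cons (.split 868 (.cons (.split 1252 (.cons (.split 1812 (.cons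
  (.split 916 (.cons (.split 3156 (.cons (.split 2260 (.cons (.split 3124 (.cons (.split 1588
  (.cons (.split 2356 (.cons (.split 436 (.cons (.split 628 (.cons (.split 244 (.cons (.split 1676
  (.cons (.split 1420 (.cons (.split 2636 (.cons (.split 2380 (.cons (.split 2604 (.cons (.split
  1580 (.cons (.split 2220 (.cons (.split 428 (.cons (.split 1132 (.cons (.split 364 (.cons
  (.split 2332 (.cons (.split 1308 (.cons (.split 2204 (.cons (.split 668 (.cons (.split 1116
  (.cons (.fin 130479115481616) .nil)) .nil)) .nil)) .nil)) .nil)) .nil)) .nil)) .nil)) .nil))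
  .nil)) .nil)) .nil)) .nil)) .nil)) .nil)) .nil)) .nil)) .nil)) .nil)) .nil)) .nil)) .nil))
  .nil)) .nil)) .nil)) .nil)) .nil)) .nil)) .nil)) .nil)) .nil)) .nil)) .nil)) .nil)) .nil))
  .nil)) .nil)) .nil)) .nil)) .nil)) .nil)) .nil)) .nil)) .nil)) .nil)) .nil)) .nil)) .nil))
  .nil)) .nil)) .nil)) .nil)) .nil)) .nil)) .nil)) .nil)) .nil)) .nil)) .nil)) .nil)) .nil))
  .nil)) .nil)) .nil)) .nil)) .nil)) .nil)) .nil)) .nil)) .nil)) .nil)) .nil)) .nil)) .nil))
  .nil)) .nil)) .nil)) .nil)) .nil)) .nil)) .nil)) .nil)) .nil)) .nil)) .nil)) .nil)) .nil))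
  .nil)) .nil)) .nil)) .nil)) .nil)) .nil)) .nil)) .nil)) .nil)) .nil)) .nil)) .nil)) .nil))
  .nil)) (.cons (.split 1114 (.cons (.split 1730 (.cons (.split 1858 (.cons (.split 3650 (.cons
  (.split 1624 (.cons (.split 3160 (.cons (.split 3842 (.cons (.split 3714 (.cons (.split 3856
  (.cons (.split 3904 (.cons (.split 3680 (.cons (.split 3744 (.cons (.split 1952 (.cons (.split
  2912 (.cons (.split 1888 (.cons (.split 3424 (.cons (.split 3488 (.cons (.split 2976 (.cons
  (.split 3296 (.cons (.split 2784 (.cons (.split 2528 (.cons (.split 1504 (.cons (.split 992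
  (.cons (.split 3472 (.cons (.split 1936 (.cons (.split 2960 (.cons (.split 3664 (.cons (.split
  2896 (.cons (.split 2768 (.cons (.split 1744 (.cons (.split 2512 (.cons (.split 1488 (.cons
  (.split 2736 (.cons (.split 1712 (.cons (.split 2480 (.cons (.split 1456 (.cons (.split 2672
  (.cons (.split 2416 (.cons (.split 1392 (.cons (.split 3848 (.cons (.split 3464 (.cons (.split
  2952 (.cons (.split 1864 (.cons (.split 3272 (.cons (.split 1736 (.cons (.split 2504 (.cons
  (.split 968 (.cons (.split 3368 (.cons (.split 1832 (.cons (.split 936 (.cons (.split 3176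
  (.cons (.split 2280 (.cons (.split 744 (.cons (.split 3608 (.cons (.split 2840 (.cons (.split
  3224 (.cons (.split 856 (.cons (.split 472 (.cons (.split 3128 (.cons (.split 2616 (.cons
  (.split 1336 (.cons (.split 824 (.cons (.split 1208 (.cons (.split 696 (.cons (.split 2168
  (.cons (.split 376 (.cons (.split 248 (.cons (.split 3716 (.cons (.split 3396 (.cons (.split
  2756 (.cons (.split 1476 (.cons (.split 964 (.cons (.split 2852 (.cons (.split 3236 (.cons
  (.split 868 (.cons (.split 1252 (.cons (.split 1812 (.cons (.split 916 (.cons (.split 3156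
  (.cons (.split 2260 (.cons (.split 3124 (.cons (.split 1588 (.cons (.split 2356 (.cons (.split
  436 (.cons (.split 628 (.cons (.split 244 (.cons (.split 1676 (.cons (.split 1420 (.cons (.split
  2636 (.cons (.split 2380 (.cons (.split 2604 (.cons (.split 1580 (.cons (.split 2220 (.cons
  (.split 428 (.cons (.split 1132 (.cons (.split 364 (.cons (.split 2332 (.cons (.split 1308
  (.cons (.split 2204 (.cons (.split 668 (.cons (.split 604 (.cons (.fin 188525850145296) .nil))
  .nil)) .nil)) .nil)) .nil)) .nil)) .nil)) .nil)) .nil)) .nil)) .nil)) .nil)) .nil)) .nil))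
  .nil)) .nil)) .nil)) .nil)) .nil)) .nil)) .nil)) .nil)) .nil)) .nil)) .nil)) .nil)) .nil))
  .nil)) .nil)) .nil)) .nil)) .nil)) .nil)) .nil)) .nil)) .nil)) .nil)) .nil)) .nil)) .nil))
  .nil)) .nil)) .nil)) .nil)) .nil)) .nil)) .nil)) .nil)) .nil)) .nil)) .nil)) .nil)) .nil))
  .nil)) .nil)) .nil)) .nil)) .nil)) .nil)) .nil)) .nil)) .nil)) .nil)) .nil)) .nil)) .nil))
  .nil)) .nil)) .nil)) .nil)) .nil)) .nil)) .nil)) .nil)) .nil)) .nil)) .nil)) .nil)) .nil))
  .nil)) .nil)) .nil)) .nil)) .nil)) .nil)) .nil)) .nil)) .nil)) .nil)) .nil)) .nil)) .nil))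
  .nil)) .nil)) .nil)) .nil)) .nil)) .nil)) .nil)) .nil)) .nil)) .nil))) .nil)) .nil)) .nil))
  .nil)) .nil)) .nil)) .nil)) .nil)) .nil)) .nil)) .nil)) .nil)) .nil)) .nil)) .nil)) .nil))
  .nil)) .nil)))) .nil)) .nil)) .nil)) .nil)) .nil)) .nil)) .nil))) .nil)) .nil)) .nil)) .nil))
  .nil))

theorem check11 : check 11 4 std11 cert11 none [] = true := by decide +kernel

theorem check12 : check 12 5 std12 cert12 none [] = true := by decide +kernel

end H1.W
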